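/-
A computable field with four elements.
-/
import Mathlib

set_option autoImplicit false

namespace CfsgLib.G24

/-- The field with four elements. -/
inductive K where
  | o | i | w | v
deriving DecidableEq

namespace K

instance : Fintype K where
  elems := {.o, .i, .w, .v}
  complete := fun x => by cases x <;> decide

/-- Addition. -/
def addK : K → K → K
  | .o, b => b
  | .i, .o => .i
  | .i, .i => .o
  | .i, .w => .v
  | .i, .v => .w
  | .w, .o => .w
  | .w, .i => .v
  | .w, .w => .o
  | .w, .v => .i
  | .v, .o => .v
  | .v, .i => .w
  | .v, .w => .i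
  | .v, .v => .o

/-- Multiplication. -/
def mulK : K → K → K
  | .o, _ => .o
  | .i, b => b
  | .w, .o => .o
  | .w, .i => .w
  | .w, .w => .v
  | .w, .v => .i
  | .v, .o => .o
  | .v, .i => .v
  | .v, .w => .i
  | .v, .v => .w

/-- Inversion. -/
def invK : K → K
  | .o => .o
  | .i => .i
  | .w => .v
  | .v => .w

instance : Zero K := ⟨.o⟩
instance : One K := ⟨.i⟩
instance : Add K := ⟨addK⟩
instance : Mul K := ⟨mulK⟩
instance : Neg K := ⟨fun a => a⟩
instance : Inv K := ⟨invK⟩
instance : NatCast K := ⟨fun n => if n % 2 = 0 then .o else .i⟩
instance : IntCast K := ⟨fun n => if n % 2 = 0 then .o else .i⟩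

instance : CommRing K where
  add_assoc := by decide
  zero_add := by decide
  add_zero := by decide
  nsmul := nsmulRec
  zsmul := zsmulRec
  neg_add_cancel := by decide
  add_comm := by decide
  mul_assoc := by decide
  one_mul := by decide
  mul_one := by decide
  left_distrib := by decide
  right_distrib := by decide
  zero_mul := by decide
  mul_zero := by decide
  mul_comm := by decide
  natCast_zero := rfl
  natCast_succ := fun n => by
    show (if (n + 1) % 2 = 0 then K.o else K.i) = addK (if n % 2 = 0 then K.o else K.i) K.i
    by_cases h : n % 2 = 0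
    · rw [if_pos h, if_neg (by omega)]; rfl
    · rw [if_neg h, if_pos (by omega)]; rfl
  intCast_ofNat := fun n => by
    show (if (n : ℤ) % 2 = 0 then K.o else K.i) = if n % 2 = 0 then K.o else K.i
    by_cases h : n % 2 = 0
    · rw [if_pos h, if_pos (by omega)]
    · rw [if_neg h, if_neg (by omega)]
  intCast_negSucc := fun n => by
    show (if (Int.negSucc n) % 2 = 0 then K.o else K.i) = if (n + 1) % 2 = 0 then K.o else K.i
    by_cases h : (n + 1) % 2 = 0
    · rw [if_pos h, if_pos (by omega)]
    · rw [if_neg h, if_neg (by omega)]

instance : Field K where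
  exists_pair_ne := ⟨.o, .i, by decide⟩
  mul_inv_cancel := by decide
  inv_zero := rfl
  nnqsmul := _
  qsmul := _

theorem card_eq : Fintype.card K = 4 := by decide

theorem natCard_eq : Nat.card K = 4 := by rw [Nat.card_eq_fintype_card, card_eq]

theorem add_self : ∀ a : K, a + a = 0 := by decide

end K

/-- Every field with four elements is this one. -/
theorem exists_ringEquiv (F : Type*) [Field F] [Fintype F] (hF : Fintype.card F = 4) :
    Nonempty (F ≃+* K) :=
  ⟨FiniteField.ringEquivOfCardEq (hF.trans K.card_eq.symm)⟩

end CfsgLib.G24
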