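/-
The natural six-dimensional representation of the Chevalley group of type G2 over the field with four
elements: tables and kernel checks.
-/
import Cfsg.Agent.Lib.G24.Field
import Cfsg.Prelude.Def_ChevG2

set_option autoImplicit false

namespace CfsgLib.G24

open Matrix Cfsg.Lie

/-- The positions of the entries of the fourteen basis matrices. -/
def basisPos : List (List (ℕ × ℕ)) :=
  [[(0, 0), (1, 1), (4, 4), (5, 5)], [(1, 1), (2, 2), (3, 3), (4, 4)], [(0, 4), (1, 5)], [(0, 3), (2, 5)], [(1, 3), (2, 4)], [(0, 2), (3, 5)], [(0, 1), (4, 5)], [(1, 2), (3, 4)], [(2, 1), (4, 3)], [(1, 0), (5, 4)], [(2, 0), (5, 3)], [(3, 1), (4, 2)], [(3, 0), (5, 2)], [(4, 0), (5, 1)]]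

/-- The positions of the quadratic terms of the root elements. -/
def quadPos : List (List (ℕ × ℕ)) :=
  [[], [], [(0, 5)], [(1, 4)], [(2, 3)], [], [], [(3, 2)], [(4, 1)], [(5, 0)], [], []]

/-- The terms of the adjoint action of the root elements. -/
def adjTerms : List (List (List (ℕ × ℕ))) :=
  [[[(0, 0)],
    [(1, 0), (2, 1)],
    [(2, 0)],
    [(3, 0)],
    [(4, 0)],
    [(5, 0)],
    [(6, 0)],
    [(7, 0)],
    [(3, 1), (8, 0)],
    [(9, 0)],
    [(4, 1), (10, 0)],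
    [(5, 1), (11, 0)],
    [(7, 1), (12, 0)],
    [(0, 1), (2, 2), (13, 0)]],
  [[(0, 0), (3, 1)],
    [(1, 0), (3, 1)],
    [(2, 0)],
    [(3, 0)],
    [(4, 0)],
    [(5, 0)],
    [(6, 0)],
    [(2, 1), (7, 0)],
    [(8, 0)],
    [(4, 1), (9, 0)],
    [(10, 0)],
    [(6, 1), (11, 0)],
    [(0, 1), (1, 1), (3, 2), (12, 0)],
    [(8, 1), (13, 0)]],
  [[(0, 0), (4, 1)],
    [(1, 0)],
    [(2, 0)],
    [(3, 0)],
    [(4, 0)],
    [(2, 1), (5, 0)],
    [(3, 1), (6, 0)],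
    [(7, 0)],
    [(8, 0)],
    [(2, 2), (9, 0)],
    [(3, 2), (10, 0)],
    [(1, 1), (4, 2), (11, 0)],
    [(2, 3), (5, 2), (9, 1), (12, 0)],
    [(3, 3), (6, 2), (10, 1), (13, 0)]],
  [[(0, 0), (5, 1)],
    [(1, 0), (5, 1)],
    [(2, 0)],
    [(3, 0)],
    [(2, 1), (4, 0)],
    [(5, 0)],
    [(2, 2), (6, 0)],
    [(7, 0)],
    [(2, 3), (4, 2), (6, 1), (8, 0)],
    [(7, 1), (9, 0)],
    [(0, 1), (1, 1), (5, 2), (10, 0)],
    [(7, 2), (11, 0)],
    [(12, 0)],
    [(7, 3), (9, 2), (11, 1), (13, 0)]],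
  [[(0, 0)],
    [(1, 0), (6, 1)],
    [(2, 0)],
    [(3, 0)],
    [(3, 1), (4, 0)],
    [(3, 2), (5, 0)],
    [(6, 0)],
    [(3, 3), (4, 2), (5, 1), (7, 0)],
    [(8, 0)],
    [(0, 1), (6, 2), (9, 0)],
    [(8, 1), (10, 0)],
    [(8, 2), (11, 0)],
    [(8, 3), (10, 2), (11, 1), (12, 0)],
    [(13, 0)]],
  [[(0, 0), (7, 1)],
    [(1, 0)],
    [(2, 0)],
    [(2, 1), (3, 0)],
    [(4, 0)],
    [(5, 0)],
    [(5, 1), (6, 0)],
    [(7, 0)],
    [(1, 1), (7, 2), (8, 0)],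
    [(9, 0)],
    [(9, 1), (10, 0)],
    [(11, 0)],
    [(12, 0)],
    [(12, 1), (13, 0)]],
  [[(0, 0), (8, 1)],
    [(1, 0)],
    [(2, 0), (3, 1)],
    [(3, 0)],
    [(4, 0)],
    [(5, 0), (6, 1)],
    [(6, 0)],
    [(1, 1), (7, 0), (8, 2)],
    [(8, 0)],
    [(9, 0), (10, 1)],
    [(10, 0)],
    [(11, 0)],
    [(12, 0), (13, 1)],
    [(13, 0)]],
  [[(0, 0)],
    [(1, 0), (9, 1)],
    [(2, 0)],
    [(3, 0), (4, 1), (5, 2), (7, 3)],
    [(4, 0), (7, 2)],
    [(5, 0), (7, 1)],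
    [(0, 1), (6, 0), (9, 2)],
    [(7, 0)],
    [(8, 0), (10, 1), (11, 2), (12, 3)],
    [(9, 0)],
    [(10, 0), (12, 2)],
    [(11, 0), (12, 1)],
    [(12, 0)],
    [(13, 0)]],
  [[(0, 0), (10, 1)],
    [(1, 0), (10, 1)],
    [(2, 0), (4, 1), (6, 2), (8, 3)],
    [(3, 0)],
    [(4, 0), (8, 2)],
    [(0, 1), (1, 1), (5, 0), (10, 2)],
    [(6, 0), (8, 1)],
    [(7, 0), (9, 1), (11, 2), (13, 3)],
    [(8, 0)],
    [(9, 0), (13, 2)],
    [(10, 0)],
    [(11, 0), (13, 1)],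
    [(12, 0)],
    [(13, 0)]],
  [[(0, 0), (11, 1)],
    [(1, 0)],
    [(2, 0), (5, 1), (9, 2), (12, 3)],
    [(3, 0), (6, 1), (10, 2), (13, 3)],
    [(1, 1), (4, 0), (11, 2)],
    [(5, 0), (12, 2)],
    [(6, 0), (13, 2)],
    [(7, 0)],
    [(8, 0)],
    [(9, 0), (12, 1)],
    [(10, 0), (13, 1)],
    [(11, 0)],
    [(12, 0)],
    [(13, 0)]],
  [[(0, 0), (12, 1)],
    [(1, 0), (12, 1)],
    [(2, 0), (7, 1)],
    [(0, 1), (1, 1), (3, 0), (12, 2)],
    [(4, 0), (9, 1)],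
    [(5, 0)],
    [(6, 0), (11, 1)],
    [(7, 0)],
    [(8, 0), (13, 1)],
    [(9, 0)],
    [(10, 0)],
    [(11, 0)],
    [(12, 0)],
    [(13, 0)]],
  [[(0, 0)],
    [(1, 0), (13, 1)],
    [(0, 1), (2, 0), (13, 2)],
    [(3, 0), (8, 1)],
    [(4, 0), (10, 1)],
    [(5, 0), (11, 1)],
    [(6, 0)],
    [(7, 0), (12, 1)],
    [(8, 0)],
    [(9, 0)],
    [(10, 0)],
    [(11, 0)],
    [(12, 0)],
    [(13, 0)]]]

/-- Each elementary matrix as a word in the basis matrices. -/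
def unitWords : List (List ℕ) :=
  [[0, 3, 12], [3, 11], [0, 5], [0, 3], [2, 1], [2, 6], [1, 9], [0, 4, 11], [0, 7], [0, 4], [2, 9], [1, 2], [1, 10], [3, 13], [1, 3, 12], [3, 10], [3, 9], [1, 3], [1, 12], [5, 13], [5, 12], [1, 5, 10], [5, 9], [1, 5], [1, 13], [6, 13], [0, 11], [0, 8], [0, 8, 7], [1, 6], [9, 13], [10, 11], [0, 12], [0, 10], [9, 1], [0, 10, 5]]

/-- A zero-one matrix given by the positions of its ones. -/
def posMat (l : List (ℕ × ℕ)) : Matrix (Fin 6) (Fin 6) K :=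
  Matrix.of fun a b => if (a.val, b.val) ∈ l then 1 else 0

/-- Numbering of the coordinates of the adjoint module. -/
def num : chevG2.Idx → ℕ
  | Sum.inl i => i.val
  | Sum.inr s => 2 + s.val

/-- The basis of the image of the Lie algebra. -/
def bas (c : chevG2.Idx) : Matrix (Fin 6) (Fin 6) K :=
  posMat (basisPos.getD (num c) [])

/-- The root element in the six-dimensional module. -/
def xh (r : Fin chevG2.nroots) (t : K) : Matrix (Fin 6) (Fin 6) K :=
  Matrix.of fun a b => (if a = b then 1 else 0) +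
    (if (a.val, b.val) ∈ basisPos.getD (2 + r.val) [] then t else 0) +
    (if (a.val, b.val) ∈ quadPos.getD r.val [] then t * t else 0)

/-- Powers with exponent at most three. -/
def pw (t : K) : ℕ → K
  | 0 => 1
  | 1 => t
  | 2 => t * t
  | _ => t * t * t

/-- The tabulated root element in the adjoint module. -/
def xA (r : Fin chevG2.nroots) (t : K) : Matrix chevG2.Idx chevG2.Idx K :=
  Matrix.of fun a b => ((((adjTerms.getD r.val []).getD (num b) []).filter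
    (fun e => e.1 == num a)).map fun e => pw t e.2).sum

/-- The symplectic form. -/
def form : Matrix (Fin 6) (Fin 6) K :=
  Matrix.of fun a b => if a.val + b.val = 5 then 1 else 0

set_option maxRecDepth 100000
set_option maxHeartbeats 4000000

theorem xMat_eq : ∀ (r : Fin chevG2.nroots) (t : K), chevG2.xMat K r t = xA r t := by
  decide +kernel

theorem xh_mul_self : ∀ (r : Fin chevG2.nroots) (t : K), xh r t * xh r t = 1 := by
  decide +kernel

theorem xA_mul_self : ∀ (r : Fin chevG2.nroots) (t : K), xA r t * xA r t = 1 := by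
  decide +kernel

theorem xh_form : ∀ (r : Fin chevG2.nroots) (t : K), (xh r t)ᵀ * form * xh r t = form := by
  decide +kernel

theorem intertwine : ∀ (r : Fin chevG2.nroots) (t : K) (c : chevG2.Idx),
    xh r t * bas c * xh r t =
      ((((adjTerms.getD r.val []).getD (num c) [])).map fun e =>
        pw t e.2 • posMat (basisPos.getD e.1 [])).sum := by
  decide +kernel

end CfsgLib.G24
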