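/-
Kernel checks on the natural module of G2(4): the generated matrix algebra and four special elements.
-/
import Cfsg.Agent.Lib.G24.Data

set_option autoImplicit false

namespace CfsgLib.G24

open Matrix Cfsg.Lie

set_option maxRecDepth 100000
set_option maxHeartbeats 4000000

/-- The coordinate of the `k`th basis matrix. -/
def idx (k : ℕ) : chevG2.Idx :=
  if h : k < 2 then Sum.inl ⟨k, h⟩ else
    if h' : k - 2 < 12 then Sum.inr ⟨k - 2, h'⟩ else Sum.inl ⟨0, by decide⟩

theorem words_eq : ∀ (i j : Fin 6),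
    ((unitWords.getD (6 * i.val + j.val) []).map fun k => bas (idx k)).prod =
      posMat [(i.val, j.val)] := by
  decide +kernel

theorem idx_num : ∀ (r : Fin chevG2.nroots) (c : chevG2.Idx),
    ∀ e ∈ (adjTerms.getD r.val []).getD (num c) [],
      posMat (basisPos.getD e.1 []) = bas (idx e.1) ∧ num (idx e.1) = e.1 := by
  decide +kernel

/-- A position occurring in only one basis matrix. -/
def pivot (c : chevG2.Idx) : ℕ × ℕ :=
  if num c = 0 then (0, 0) else if num c = 1 then (2, 2) else (basisPos.getD (num c) []).getD 0 (0, 0)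

/-- The pivot as a pair of indices. -/
def pivotFin (c : chevG2.Idx) : Fin 6 × Fin 6 := (Fin.ofNat 6 (pivot c).1, Fin.ofNat 6 (pivot c).2)

theorem bas_pivot : ∀ (a b : chevG2.Idx),
    (if bas b (pivotFin a).1 (pivotFin a).2 = (if b = a then 1 else 0) then true else false) = true := by
  decide +kernel

/-- A product of root elements. -/
def wordMat (l : List (Fin chevG2.nroots × K)) : Matrix (Fin 6) (Fin 6) K :=
  (l.map fun e => xh e.1 e.2).prod

/-- A word whose value has order 6. -/
def word6 : List (Fin chevG2.nroots × K) :=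
  [(⟨6, by decide⟩, .i), (⟨5, by decide⟩, .i), (⟨7, by decide⟩, .i)]

/-- A word whose value has order 10. -/
def word10 : List (Fin chevG2.nroots × K) :=
  [(⟨6, by decide⟩, .i), (⟨5, by decide⟩, .w), (⟨7, by decide⟩, .i)]

/-- A word whose value has order 7. -/
def word7 : List (Fin chevG2.nroots × K) :=
  [(⟨6, by decide⟩, .i), (⟨5, by decide⟩, .i), (⟨7, by decide⟩, .i), (⟨4, by decide⟩, .i)]

/-- A word whose value has order 13. -/
def word13 : List (Fin chevG2.nroots × K) :=
  [(⟨6, by decide⟩, .i), (⟨5, by decide⟩, .w), (⟨7, by decide⟩, .w), (⟨4, by decide⟩, .w)]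

/-- A matrix with rows given as lists. -/
def rowsMat (l : List (List K)) : Matrix (Fin 6) (Fin 6) K :=
  Matrix.of fun a b => (l.getD a.val []).getD b.val 0

theorem check6 : wordMat word6 ^ 6 = 1 ∧ wordMat word6 ^ 3 ≠ 1 ∧ wordMat word6 ^ 2 ≠ 1 := by
  decide +kernel

theorem check10 : wordMat word10 ^ 10 = 1 ∧ wordMat word10 ^ 5 ≠ 1 ∧ wordMat word10 ^ 2 ≠ 1 := by
  decide +kernel

theorem check7 : wordMat word7 ^ 7 = 1 ∧
    rowsMat [[.i, .i, .o, .i, .o, .i], [.i, .o, .o, .o, .o, .o], [.i, .i, .i, .i, .o, .i],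
      [.i, .i, .i, .o, .o, .o], [.i, .i, .i, .i, .i, .i], [.i, .i, .i, .i, .i, .o]] *
        (wordMat word7 - 1) = 1 := by
  decide +kernel

theorem check13 : wordMat word13 ^ 13 = 1 ∧
    rowsMat [[.i, .v, .o, .w, .o, .w], [.v, .o, .o, .o, .o, .o], [.v, .i, .i, .w, .o, .w],
      [.i, .w, .w, .o, .o, .o], [.i, .w, .w, .i, .i, .v], [.v, .i, .i, .v, .v, .o]] *
        (wordMat word13 - 1) = 1 := by
  decide +kernel

end CfsgLib.G24
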