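/-
The natural six-dimensional representation of the Chevalley group of type G2 over the field with four
elements.
-/
import Cfsg.Agent.Lib.G24.Checks

set_option autoImplicit false

namespace CfsgLib.G24

open Matrix Cfsg.Lie

set_option maxRecDepth 100000
set_option maxHeartbeats 4000000

theorem lincomb : ∀ (r : Fin chevG2.nroots) (t : K) (c : chevG2.Idx),
    (∑ u : chevG2.Idx, xA r t u c • bas u) =
      ((((adjTerms.getD r.val []).getD (num c) [])).map fun e =>
        pw t e.2 • posMat (basisPos.getD e.1 [])).sum := by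
  decide +kernel

theorem sq_one : ∀ a : K, a * a = 1 → a = 1 := by decide

/-- The root element as a unit, six-dimensional module. -/
def xhU (r : Fin chevG2.nroots) (t : K) : GL (Fin 6) K :=
  ⟨xh r t, xh r t, xh_mul_self r t, xh_mul_self r t⟩

/-- The root element as a unit, adjoint module. -/
def xAU (r : Fin chevG2.nroots) (t : K) : GL chevG2.Idx K :=
  ⟨xA r t, xA r t, xA_mul_self r t, xA_mul_self r t⟩

/-- Pairs of corresponding root elements generate this subgroup. -/
def pairs : Subgroup (GL (Fin 6) K × GL chevG2.Idx K) :=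
  Subgroup.closure (Set.range fun p : Fin chevG2.nroots × K => (xhU p.1 p.2, xAU p.1 p.2))

/-- Conjugation by the first component is given by the second, and the form is kept. -/
def Compat (p : GL (Fin 6) K × GL chevG2.Idx K) : Prop :=
  (∀ c, (p.1 : Matrix (Fin 6) (Fin 6) K) * bas c =
      (∑ u, (p.2 : Matrix chevG2.Idx chevG2.Idx K) u c • bas u) * (p.1 : Matrix (Fin 6) (Fin 6) K)) ∧
    ((p.1 : Matrix (Fin 6) (Fin 6) K))ᵀ * form * (p.1 : Matrix (Fin 6) (Fin 6) K) = form

theorem compat_one : Compat 1 := by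
  refine ⟨fun c => ?_, by simp⟩
  simp only [Prod.fst_one, Prod.snd_one, Units.val_one, one_mul, mul_one, Matrix.one_apply, ite_smul,
    one_smul, zero_smul]
  exact (Fintype.sum_ite_eq' c bas).symm

theorem compat_mul {p q : GL (Fin 6) K × GL chevG2.Idx K} (hp : Compat p) (hq : Compat q) :
    Compat (p * q) := by
  constructor
  · intro c
    simp only [Prod.fst_mul, Prod.snd_mul, Units.val_mul]
    rw [mul_assoc, hq.1 c, ← mul_assoc, Finset.mul_sum]
    simp_rw [mul_smul_comm, hp.1]
    rw [← mul_assoc]
    congr 1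
    simp_rw [← smul_mul_assoc, ← Finset.sum_mul]
    congr 1
    simp_rw [Finset.smul_sum, smul_smul, Matrix.mul_apply, Finset.sum_smul]
    rw [Finset.sum_comm]
    simp_rw [mul_comm]
  · simp only [Prod.fst_mul, Units.val_mul, Matrix.transpose_mul]
    calc ((q.1 : Matrix (Fin 6) (Fin 6) K))ᵀ * ((p.1 : Matrix (Fin 6) (Fin 6) K))ᵀ * form *
          ((p.1 : Matrix (Fin 6) (Fin 6) K) * (q.1 : Matrix (Fin 6) (Fin 6) K))
        = ((q.1 : Matrix (Fin 6) (Fin 6) K))ᵀ * (((p.1 : Matrix (Fin 6) (Fin 6) K))ᵀ * form *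
          (p.1 : Matrix (Fin 6) (Fin 6) K)) * (q.1 : Matrix (Fin 6) (Fin 6) K) := by
          simp only [mul_assoc]
      _ = form := by rw [hp.2, hq.2]

theorem compat_gen (r : Fin chevG2.nroots) (t : K) : Compat (xhU r t, xAU r t) := by
  refine ⟨fun c => ?_, xh_form r t⟩
  show xh r t * bas c = (∑ u, xA r t u c • bas u) * xh r t
  rw [lincomb, ← intertwine, mul_assoc (xh r t * bas c), xh_mul_self, mul_one]

theorem compat_of_mem {p : GL (Fin 6) K × GL chevG2.Idx K} (hp : p ∈ pairs) : Compat p := by
  induction hp using Subgroup.closure_induction with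
  | mem x hx =>
    obtain ⟨⟨r, t⟩, rfl⟩ := hx
    exact compat_gen r t
  | one => exact compat_one
  | mul x y _ _ hx hy => exact compat_mul hx hy
  | inv x _ hx =>
    have h : x⁻¹ = x ^ (orderOf x - 1) := by
      rw [inv_eq_iff_mul_eq_one, ← pow_succ', Nat.sub_add_cancel (orderOf_pos x), pow_orderOf_eq_one]
    rw [h]
    generalize orderOf x - 1 = n
    induction n with
    | zero => rw [pow_zero]; exact compat_one
    | succ n ih => rw [pow_succ]; exact compat_mul ih hx

theorem single_eq (i j : Fin 6) :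
    posMat [(i.val, j.val)] = Matrix.of fun a b => if a = i ∧ b = j then (1 : K) else 0 := by
  ext a b
  simp [posMat, Fin.val_inj]

theorem snd_injective :
    Function.Injective ((MonoidHom.snd (GL (Fin 6) K) (GL chevG2.Idx K)).comp pairs.subtype) := by
  rw [injective_iff_map_eq_one]
  rintro ⟨⟨g, M⟩, hgM⟩ (h : M = 1)
  subst h
  obtain ⟨h1, h2⟩ := compat_of_mem hgM
  set A : Matrix (Fin 6) (Fin 6) K := (g : Matrix (Fin 6) (Fin 6) K) with hA
  have hc : ∀ c, Commute A (bas c) := fun c => by
    have := h1 c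
    simp only [Units.val_one, Matrix.one_apply, ite_smul, one_smul, zero_smul] at this
    exact this.trans (congrArg (· * A) (Fintype.sum_ite_eq' c bas))
  have hu : ∀ i j : Fin 6, Commute A (posMat [(i.val, j.val)]) := fun i j => by
    rw [← words_eq i j]
    refine Commute.list_prod_right _ _ fun x hx => ?_
    obtain ⟨k, -, rfl⟩ := List.mem_map.1 hx
    exact hc _
  have hent : ∀ a i j : Fin 6, A a i = if a = i then A j j else 0 := fun a i j => by
    have := congrFun (congrFun (hu i j).eq a) j
    rw [single_eq] at this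
    simpa [Matrix.mul_apply, ite_and, eq_comm] using this
  have hAs : A = A 0 0 • (1 : Matrix (Fin 6) (Fin 6) K) := by
    ext a i
    rw [hent a i 0]
    by_cases h : a = i <;> simp [h]
  have hone : A 0 0 = 1 := by
    apply sq_one
    have := congrFun (congrFun h2 0) 5
    rw [hAs] at this
    simpa [form] using this
  rw [hone, one_smul] at hAs
  exact Subtype.ext (Prod.ext (Units.ext hAs) rfl)

theorem fst_injective :
    Function.Injective ((MonoidHom.fst (GL (Fin 6) K) (GL chevG2.Idx K)).comp pairs.subtype) := by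
  rw [injective_iff_map_eq_one]
  rintro ⟨⟨g, M⟩, hgM⟩ (h : g = 1)
  subst h
  have h1 := (compat_of_mem hgM).1
  refine Subtype.ext (Prod.ext rfl (Units.ext ?_))
  show (M : Matrix chevG2.Idx chevG2.Idx K) = 1
  ext a c
  have := congrFun (congrFun (h1 c) (pivotFin a).1) (pivotFin a).2
  simp only [Units.val_one, one_mul, mul_one, Matrix.sum_apply, Matrix.smul_apply, smul_eq_mul] at this
  have hp : ∀ b, bas b (pivotFin a).1 (pivotFin a).2 = if b = a then 1 else 0 := fun b => by
    by_contra hne
    simpa [hne] using bas_pivot a b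
  simp_rw [hp] at this
  simp only [mul_ite, mul_one, mul_zero, Finset.sum_ite_eq', Finset.mem_univ, if_true] at this
  rw [← this, Matrix.one_apply]
  simp only [eq_comm]

theorem range_snd :
    ((MonoidHom.snd (GL (Fin 6) K) (GL chevG2.Idx K)).comp pairs.subtype).range = chevG2.group K := by
  rw [MonoidHom.range_comp, Subgroup.range_subtype, pairs, MonoidHom.map_closure]
  unfold ChevalleyDatum.group
  congr 1
  ext g
  constructor
  · rintro ⟨-, ⟨⟨r, t⟩, rfl⟩, rfl⟩
    exact ⟨r, t, (xMat_eq r t).symm⟩
  · rintro ⟨r, t, hg⟩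
    exact ⟨_, ⟨(r, t), rfl⟩, Units.ext ((xMat_eq r t).symm.trans hg.symm)⟩

/-- The group of pairs is the Chevalley group. -/
noncomputable def pairsEquiv : pairs ≃* ↥(chevG2.group K) :=
  (MonoidHom.ofInjective snd_injective).trans (MulEquiv.subgroupCongr range_snd)

/-- The natural representation. -/
noncomputable def rep : ↥(chevG2.group K) →* GL (Fin 6) K :=
  ((MonoidHom.fst (GL (Fin 6) K) (GL chevG2.Idx K)).comp pairs.subtype).comp pairsEquiv.symm.toMonoidHom

theorem rep_injective : Function.Injective rep :=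
  fst_injective.comp pairsEquiv.symm.injective

theorem word_mem (l : List (Fin chevG2.nroots × K)) :
    ∃ x : ↥(chevG2.group K), (rep x : Matrix (Fin 6) (Fin 6) K) = wordMat l := by
  induction l with
  | nil => exact ⟨1, by simp [wordMat]⟩
  | cons e l ih =>
    obtain ⟨x, hx⟩ := ih
    refine ⟨pairsEquiv ⟨(xhU e.1 e.2, xAU e.1 e.2), Subgroup.subset_closure ⟨e, rfl⟩⟩ * x, ?_⟩
    rw [map_mul, Units.val_mul, hx]
    simp [rep, wordMat, xhU]

theorem xMat_map {F : Type*} [Field F] (e : F →+* K) (r : Fin chevG2.nroots) (t : F) :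
    (chevG2.xMat F r t).map e = chevG2.xMat K r (e t) := by
  ext a b
  rcases b with i | s <;> rcases a with i' | u <;>
    simp only [Matrix.map_apply, ChevalleyDatum.xMat, Matrix.of_apply]
  · split_ifs <;> simp
  · split_ifs <;> simp
  · split_ifs <;> simp
  · split_ifs <;> simp [map_list_sum, List.map_map, Function.comp_def]

/-- The Chevalley group over any field with four elements is the one over the model. -/
theorem group_equiv {F : Type*} [Field F] (e : F ≃+* K) :
    Nonempty (↥(chevG2.group F) ≃* ↥(chevG2.group K)) := by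
  let φ : GL chevG2.Idx F ≃* GL chevG2.Idx K := Units.mapEquiv e.mapMatrix.toMulEquiv
  have hval : ∀ g, (φ g : Matrix chevG2.Idx chevG2.Idx K) = (g : Matrix _ _ F).map e := fun g => rfl
  refine ⟨(φ.subgroupMap _).trans (MulEquiv.subgroupCongr ?_)⟩
  unfold ChevalleyDatum.group
  rw [MonoidHom.map_closure]
  congr 1
  ext g
  constructor
  · rintro ⟨h, ⟨r, t, hh⟩, rfl⟩
    refine ⟨r, e t, ?_⟩
    show (φ h : Matrix chevG2.Idx chevG2.Idx K) = _
    rw [hval, hh]
    exact xMat_map e.toRingHom r t
  · rintro ⟨r, t, hg⟩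
    refine ⟨φ.symm g, ⟨r, e.symm t, ?_⟩, φ.apply_symm_apply g⟩
    have hinj : Function.Injective fun M : Matrix chevG2.Idx chevG2.Idx F => M.map e :=
      Matrix.map_injective e.injective
    refine hinj ?_
    show (φ.symm g : Matrix chevG2.Idx chevG2.Idx F).map e = (chevG2.xMat F r (e.symm t)).map e
    rw [← hval, φ.apply_symm_apply, hg]
    conv_lhs => rw [← e.apply_symm_apply t]
    exact (xMat_map e.toRingHom r (e.symm t)).symm

end CfsgLib.G24
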