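/-
Groups of unbounded order with the prime graph of G2(4).
-/
import Cfsg.Agent.Lib.G24.Rep
import Cfsg.Agent.Lib.FpfExt.Basic
import Cfsg.Agent.S1059

set_option autoImplicit false

namespace CfsgLib.G24

open Matrix Cfsg.Lie

theorem card_group : Nat.card ↥(chevG2.group K) = 2 ^ 12 * 3 ^ 3 * 5 ^ 2 * 7 * 13 := by
  rw [Cfsg.Agent.S1059.result K.card_eq]
  norm_num

theorem finite_group : Finite ↥(chevG2.group K) :=
  Nat.finite_of_card_ne_zero (by rw [card_group]; norm_num)

/-- The action on `k` copies of the natural module. -/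
noncomputable def act (k : ℕ) :
    ↥(chevG2.group K) →* MulAut (Multiplicative (Fin k → Fin 6 → K)) where
  toFun g := AddEquiv.toMultiplicative
    { toFun := fun v i => (rep g : Matrix (Fin 6) (Fin 6) K) *ᵥ v i
      invFun := fun v i => (rep g⁻¹ : Matrix (Fin 6) (Fin 6) K) *ᵥ v i
      left_inv := fun v => by
        funext i
        show (rep g⁻¹ : Matrix (Fin 6) (Fin 6) K) *ᵥ ((rep g : Matrix (Fin 6) (Fin 6) K) *ᵥ v i) = v i
        rw [Matrix.mulVec_mulVec, ← Units.val_mul, ← map_mul, inv_mul_cancel, map_one, Units.val_one,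
          Matrix.one_mulVec]
      right_inv := fun v => by
        funext i
        show (rep g : Matrix (Fin 6) (Fin 6) K) *ᵥ ((rep g⁻¹ : Matrix (Fin 6) (Fin 6) K) *ᵥ v i) = v i
        rw [Matrix.mulVec_mulVec, ← Units.val_mul, ← map_mul, mul_inv_cancel, map_one, Units.val_one,
          Matrix.one_mulVec]
      map_add' := fun v w => by
        funext i
        exact Matrix.mulVec_add _ _ _ }
  map_one' := by
    apply MulEquiv.ext
    intro v
    apply Multiplicative.toAdd.injective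
    funext i
    show (rep 1 : Matrix (Fin 6) (Fin 6) K) *ᵥ (Multiplicative.toAdd v) i = (Multiplicative.toAdd v) i
    rw [map_one, Units.val_one, Matrix.one_mulVec]
  map_mul' g h := by
    apply MulEquiv.ext
    intro v
    apply Multiplicative.toAdd.injective
    funext i
    show (rep (g * h) : Matrix (Fin 6) (Fin 6) K) *ᵥ (Multiplicative.toAdd v) i =
      (rep g : Matrix (Fin 6) (Fin 6) K) *ᵥ ((rep h : Matrix (Fin 6) (Fin 6) K) *ᵥ (Multiplicative.toAdd v) i)
    rw [map_mul, Units.val_mul, Matrix.mulVec_mulVec]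

theorem vec_pow_two {k : ℕ} (v : Multiplicative (Fin k → Fin 6 → K)) : v ^ 2 = 1 := by
  apply Multiplicative.toAdd.injective
  funext i j
  rw [pow_two, toAdd_mul, toAdd_one]
  exact K.add_self _

theorem orderOf_rep (x : ↥(chevG2.group K)) :
    orderOf x = orderOf (rep x : Matrix (Fin 6) (Fin 6) K) := by
  rw [orderOf_units, orderOf_injective rep rep_injective x]

theorem exists_six : ∃ x : ↥(chevG2.group K), orderOf x = 6 := by
  obtain ⟨x, hx⟩ := word_mem word6
  obtain ⟨h, h3, h2⟩ := check6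
  refine ⟨x, ?_⟩
  rw [orderOf_rep, hx, orderOf_eq_iff (by norm_num)]
  refine ⟨h, fun m hm hm0 hpow => ?_⟩
  have hd := orderOf_dvd_of_pow_eq_one hpow
  have hd6 := orderOf_dvd_of_pow_eq_one h
  have hg : orderOf (wordMat word6) ∣ Nat.gcd m 6 := Nat.dvd_gcd hd hd6
  have h3' : ¬ orderOf (wordMat word6) ∣ 3 := fun e => h3 (orderOf_dvd_iff_pow_eq_one.1 e)
  have h2' : ¬ orderOf (wordMat word6) ∣ 2 := fun e => h2 (orderOf_dvd_iff_pow_eq_one.1 e)
  interval_cases m <;> first
    | exact h2' (hg.trans (by decide)) | exact h3' (hg.trans (by decide))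

theorem exists_ten : ∃ x : ↥(chevG2.group K), orderOf x = 10 := by
  obtain ⟨x, hx⟩ := word_mem word10
  obtain ⟨h, h5, h2⟩ := check10
  refine ⟨x, ?_⟩
  rw [orderOf_rep, hx, orderOf_eq_iff (by norm_num)]
  refine ⟨h, fun m hm hm0 hpow => ?_⟩
  have hd := orderOf_dvd_of_pow_eq_one hpow
  have hd6 := orderOf_dvd_of_pow_eq_one h
  have hg : orderOf (wordMat word10) ∣ Nat.gcd m 10 := Nat.dvd_gcd hd hd6
  have h5' : ¬ orderOf (wordMat word10) ∣ 5 := fun e => h5 (orderOf_dvd_iff_pow_eq_one.1 e)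
  have h2' : ¬ orderOf (wordMat word10) ∣ 2 := fun e => h2 (orderOf_dvd_iff_pow_eq_one.1 e)
  interval_cases m <;> first
    | exact h2' (hg.trans (by decide)) | exact h5' (hg.trans (by decide))

theorem fixed_eq_zero {l : List (Fin chevG2.nroots × K)} {q : ℕ} (hq : q.Prime)
    (R : Matrix (Fin 6) (Fin 6) K) (h : wordMat l ^ q = 1 ∧ R * (wordMat l - 1) = 1)
    (hn : ¬ q ^ 2 ∣ Nat.card ↥(chevG2.group K)) {g : ↥(chevG2.group K)} (hg : orderOf g = q)
    {u : Fin 6 → K} (hu : (rep g : Matrix (Fin 6) (Fin 6) K) *ᵥ u = u) : u = 0 := by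
  haveI := finite_group
  haveI : Fact q.Prime := ⟨hq⟩
  obtain ⟨a, ha⟩ := word_mem l
  have ha1 : orderOf a = q := by
    rw [orderOf_rep, ha]
    refine orderOf_eq_prime h.1 fun e => ?_
    have := h.2
    rw [e, sub_self, mul_zero] at this
    exact zero_ne_one this
  obtain ⟨x, n, hx⟩ := CfsgLib.FpfExt.exists_conj_pow hg ha1 hn
  -- `a` is a conjugate of a power of `g`, so it fixes the translate of `u`
  have hpow : ∀ m : ℕ, ((rep g : Matrix (Fin 6) (Fin 6) K)) ^ m *ᵥ u = u := by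
    intro m
    induction m with
    | zero => rw [pow_zero, Matrix.one_mulVec]
    | succ m ih => rw [pow_succ, ← Matrix.mulVec_mulVec, hu, ih]
  set u' := (rep x : Matrix (Fin 6) (Fin 6) K) *ᵥ u with hu'
  have hfix : wordMat l *ᵥ u' = u' := by
    rw [← ha, hu', Matrix.mulVec_mulVec, ← Units.val_mul, ← map_mul, hx, inv_mul_cancel_right, map_mul,
      map_pow, Units.val_mul, Units.val_pow_eq_pow_val, ← Matrix.mulVec_mulVec, hpow]
  have h0 : u' = 0 := by
    calc u' = (R * (wordMat l - 1)) *ᵥ u' := by rw [h.2, Matrix.one_mulVec]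
      _ = 0 := by
        rw [← Matrix.mulVec_mulVec, Matrix.sub_mulVec, Matrix.one_mulVec, hfix, sub_self,
          Matrix.mulVec_zero]
  calc u = (rep x⁻¹ : Matrix (Fin 6) (Fin 6) K) *ᵥ u' := by
        rw [hu', Matrix.mulVec_mulVec, ← Units.val_mul, ← map_mul, inv_mul_cancel, map_one,
          Units.val_one, Matrix.one_mulVec]
    _ = 0 := by rw [h0, Matrix.mulVec_zero]

theorem unbounded (N : ℕ) : ∃ (H : Type) (_ : Group H) (_ : Finite H), N < Nat.card H ∧
    ((∀ p : ℕ, p.Prime → (p ∣ Nat.card ↥(chevG2.group K) ↔ p ∣ Nat.card H)) ∧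
      (∀ p q : ℕ, p.Prime → q.Prime → p ≠ q →
        ((∃ g : ↥(chevG2.group K), orderOf g = p * q) ↔ (∃ g : H, orderOf g = p * q)))) := by
  haveI := finite_group
  haveI : Fact (Nat.Prime 2) := ⟨Nat.prime_two⟩
  have hcard := card_group
  have hfix : ∀ (g : ↥(chevG2.group K)) (q : ℕ), q.Prime → q ≠ 2 → orderOf g = q →
      ∀ v : Multiplicative (Fin N → Fin 6 → K), v ≠ 1 → act N g v = v →
        ∃ x : ↥(chevG2.group K), orderOf x = 2 * q := by
    intro g q hq hq2 hg v hv hfx
    have hd : q ∣ 2 ^ 12 * 3 ^ 3 * 5 ^ 2 * 7 * 13 := hcard ▸ hg ▸ orderOf_dvd_natCard g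
    have hq' : q = 3 ∨ q = 5 ∨ q = 7 ∨ q = 13 := by
      have hp : ∀ r : ℕ, r.Prime → q ∣ r → q = r := fun r hr h => (Nat.prime_dvd_prime_iff_eq hq hr).1 h
      rcases hq.dvd_mul.1 hd with h | h
      · rcases hq.dvd_mul.1 h with h | h
        · rcases hq.dvd_mul.1 h with h | h
          · rcases hq.dvd_mul.1 h with h | h
            · exact absurd (hp 2 Nat.prime_two (hq.dvd_of_dvd_pow h)) hq2
            · exact Or.inl (hp 3 Nat.prime_three (hq.dvd_of_dvd_pow h))
          · exact Or.inr (Or.inl (hp 5 (by norm_num) (hq.dvd_of_dvd_pow h)))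
        · exact Or.inr (Or.inr (Or.inl (hp 7 (by norm_num) h)))
      · exact Or.inr (Or.inr (Or.inr (hp 13 (by norm_num) h)))
    have hcoord : ∀ i, (rep g : Matrix (Fin 6) (Fin 6) K) *ᵥ (Multiplicative.toAdd v) i =
        (Multiplicative.toAdd v) i := fun i => congrFun (congrArg Multiplicative.toAdd hfx) i
    rcases hq' with rfl | rfl | rfl | rfl
    · obtain ⟨x, hx⟩ := exists_six; exact ⟨x, hx⟩
    · obtain ⟨x, hx⟩ := exists_ten; exact ⟨x, hx⟩
    · refine absurd ?_ hv
      apply Multiplicative.toAdd.injective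
      funext i
      exact fixed_eq_zero hq _ check7 (by rw [hcard]; norm_num) hg (hcoord i)
    · refine absurd ?_ hv
      apply Multiplicative.toAdd.injective
      funext i
      exact fixed_eq_zero hq _ check13 (by rw [hcard]; norm_num) hg (hcoord i)
  have hV : ∀ v : Multiplicative (Fin N → Fin 6 → K), v ^ 2 = 1 := vec_pow_two
  refine ⟨Multiplicative (Fin N → Fin 6 → K) ⋊[act N] ↥(chevG2.group K), inferInstance,
    Finite.of_equiv _ SemidirectProduct.equivProd.symm, ?_, ?_, ?_⟩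
  · rw [SemidirectProduct.card, hcard, Nat.card_congr Multiplicative.toAdd, Nat.card_fun, Nat.card_fun]
    simp only [Nat.card_eq_fintype_card, Fintype.card_fin, K.card_eq]
    calc N < 4096 ^ N := Nat.lt_pow_self (by norm_num)
      _ = (4 ^ 6) ^ N := by norm_num
      _ ≤ (4 ^ 6) ^ N * (2 ^ 12 * 3 ^ 3 * 5 ^ 2 * 7 * 13) := Nat.le_mul_of_pos_right _ (by norm_num)
  · intro p hp
    exact CfsgLib.FpfExt.prime_dvd_iff (act N) hV (by rw [hcard]; norm_num) p hp
  · intro p q hp hq hpq
    exact CfsgLib.FpfExt.edge_iff (act N) hV hfix hp hq hpq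

end CfsgLib.G24
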